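import Groth.Agent.L20.GenSmooth.Scheme
import Groth.Agent.L20.RedGeneric
import Groth.Agent.Lead.GeomRedVariety
import Groth.Agent.L16.SecComp.Smooth
import Groth.Agent.L02.SpRed.OverField
import Groth.Agent.L18.KerReduced

/-!
The reduction of `X_{k'}` is geometrically reduced for a suitable finite purely inseparable `k'`.
-/

universe u

open CategoryTheory CategoryTheory.Limits AlgebraicGeometry TopologicalSpace

namespace Groth.L22.GeomRedBC

/-- A maximal point of a Noetherian sober space lies in every dense open. -/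
theorem mem_of_maximal {T : Type u} [TopologicalSpace T] [NoetherianSpace T] [QuasiSober T] [T0Space T]
    {U : Set T} (hU : IsOpen U) (hd : Dense U) {η : T} (hmax : ∀ y, y ⤳ η → y = η) : η ∈ U := by
  classical
  let W : Set T := closure {η}
  have hW : W ∈ irreducibleComponents T := by
    refine ⟨isIrreducible_singleton.closure, fun Z hZ hWZ => ?_⟩
    have hg := hZ.isGenericPoint_genericPoint_closure
    have : hZ.genericPoint ⤳ η :=
      hg.specializes (subset_closure (hWZ (subset_closure rfl)))
    rw [hmax _ this] at hg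
    show Z ⊆ closure {η}
    rw [hg.def]
    exact subset_closure
  obtain ⟨V, hVo, hVη, hVW⟩ : ∃ V : Set T, IsOpen V ∧ η ∈ V ∧ V ⊆ W := by
    refine ⟨(⋃₀ (irreducibleComponents T \ {W}))ᶜ, IsClosed.isOpen_compl (self := ?_), ?_, ?_⟩
    · rw [Set.sUnion_eq_biUnion]
      exact ((NoetherianSpace.finite_irreducibleComponents (α := T)).subset Set.sdiff_subset).isClosed_biUnion
        fun Z hZ => isClosed_of_mem_irreducibleComponents Z hZ.1
    · rintro ⟨Z, ⟨hZ, hne⟩, hηZ⟩
      have : W ⊆ Z := closure_minimal (Set.singleton_subset_iff.2 hηZ) (isClosed_of_mem_irreducibleComponents Z hZ)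
      exact hne (le_antisymm (hW.2 hZ.1 this) this)
    · intro t ht
      by_contra hne
      exact ht ⟨irreducibleComponent t, ⟨irreducibleComponent_mem_irreducibleComponents t,
        fun h => hne (h ▸ mem_irreducibleComponent)⟩, mem_irreducibleComponent⟩
  obtain ⟨t, htV, htU⟩ := hd.inter_open_nonempty V hVo ⟨η, hVη⟩
  exact (specializes_iff_mem_closure.2 (hVW htV)).mem_open hU htU

/-- A quasi-compact open containing all maximal points. -/
theorem exists_compact_opens (X : Scheme.{u}) (hirr : (irreducibleComponents (X : Type u)).Finite) :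
    ∃ V : X.Opens, CompactSpace (V : Scheme.{u}) ∧ ∀ η : X, (∀ y, y ⤳ η → y = η) → η ∈ V := by
  classical
  have hS : (genericPoints (X : Type u)).Finite := genericPoints.finite hirr
  choose A hA hmem hle using fun x : X => exists_isAffineOpen_mem_and_subset (x := x) (U := ⊤) trivial
  refine ⟨⨆ x ∈ hS.toFinset, A x, isCompact_iff_compactSpace.1 ?_, fun η hη => ?_⟩
  · rw [TopologicalSpace.Opens.coe_iSup]
    simp only [TopologicalSpace.Opens.coe_iSup]
    exact hS.toFinset.finite_toSet.isCompact_biUnion fun x _ => (hA x).isCompact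
  · refine TopologicalSpace.Opens.mem_iSup.2 ⟨η, TopologicalSpace.Opens.mem_iSup.2 ⟨?_, hmem η⟩⟩
    rw [Set.Finite.mem_toFinset]
    refine ⟨isIrreducible_singleton.closure, fun Z hZ hWZ => ?_⟩
    have hg := hZ.isGenericPoint_genericPoint_closure
    have : hZ.genericPoint ⤳ η := hg.specializes (subset_closure (hWZ (subset_closure rfl)))
    rw [hη _ this] at hg
    show Z ⊆ closure {η}
    rw [hg.def]
    exact subset_closure

theorem exists_geometricallyReduced (k : Type u) [Field k] {X : Scheme.{u}}
    (f : X ⟶ Spec (CommRingCat.of k)) [LocallyOfFiniteType f]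
    (hirr : (irreducibleComponents (X : Type u)).Finite) :
    ∃ (k' : Type u) (_ : Field k') (_ : Algebra k k'), FiniteDimensional k k' ∧ IsPurelyInseparable k k' ∧
      GeometricallyReduced
        ((pullback f (Spec.map (CommRingCat.ofHom (algebraMap k k')))).nilradical.subschemeι ≫
          pullback.snd f (Spec.map (CommRingCat.ofHom (algebraMap k k')))) := by
  obtain ⟨V, hVc, hV⟩ := exists_compact_opens X hirr
  haveI : QuasiCompact (V.ι ≫ f) := (quasiCompact_iff_compactSpace _).2 hVc
  obtain ⟨U, hUd, k', _, _, hfin, hpi, Z, hZ, i, hi, his, hsm⟩ :=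
    Groth.L20.GenSmooth.exists_dense_open_smooth k (V.ι ≫ f)
  refine ⟨k', inferInstance, inferInstance, hfin, hpi, ?_⟩
  let g := Spec.map (CommRingCat.ofHom (algebraMap k k'))
  let ι := (pullback f g).nilradical.subschemeι
  haveI : IsReduced (pullback f g).nilradical.subscheme := Groth.L20.RedGeneric.isReduced_nilradical_subscheme _
  let j : pullback (U.ι ≫ V.ι ≫ f) g ⟶ pullback f g :=
    pullback.map _ _ _ _ (U.ι ≫ V.ι) (𝟙 _) (𝟙 _) (by simp) (by simp)
  let ZR := pullback ι j
  haveI : IsReduced ZR := isReduced_of_isOpenImmersion (pullback.fst ι j)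
  have hιsurj : Function.Surjective ι := fun z => by
    have : z ∈ Set.range ι := by
      rw [Scheme.IdealSheafData.range_subschemeι, Scheme.support_nilradical]
      trivial
    exact this
  haveI : Surjective ι := ⟨hιsurj⟩
  -- the lift into the smooth scheme
  have hker : i.ker ≤ (pullback.snd ι j).ker := by
    refine le_trans ?_ (Groth.L18.vanishingIdeal_le_ker (pullback.snd ι j) ⊤ (by simp))
    rw [← Scheme.IdealSheafData.le_support_iff_le_vanishingIdeal]
    intro z _
    show z ∈ (i.ker.support : Set _)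
    rw [i.support_ker]
    exact subset_closure (his z)
  let t : ZR ⟶ Z := IsClosedImmersion.lift i (pullback.snd ι j) hker
  have ht : t ≫ i = pullback.snd ι j := IsClosedImmersion.lift_fac _ _ _
  haveI : IsClosedImmersion (t ≫ i) := ht ▸ inferInstance
  haveI : IsClosedImmersion t := IsClosedImmersion.of_comp t i
  haveI : Surjective t := ⟨fun z => by
    obtain ⟨r, hr⟩ := (pullback.snd ι j).surjective (i z)
    refine ⟨r, i.isEmbedding.injective ?_⟩
    rw [← Scheme.Hom.comp_apply, ht, hr]⟩
  haveI : IsIso t := isIso_of_isClosedImmersion_of_surjective t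
  haveI : Smooth (pullback.fst ι j ≫ ι ≫ pullback.snd f g) := by
    have : pullback.fst ι j ≫ ι ≫ pullback.snd f g = t ≫ i ≫ pullback.snd (U.ι ≫ V.ι ≫ f) g := by
      rw [reassoc_of% ht, pullback.condition_assoc]
      congr 1
      exact (pullback.lift_snd _ _ _).trans (Category.comp_id _)
    rw [this]
    infer_instance
  haveI := Groth.L16.SecComp.geometricallyReduced_of_smooth (pullback.fst ι j ≫ ι ≫ pullback.snd f g)
  refine Groth.Lead.GeomRedVariety.geometricallyReduced_of_generic _ fun z hz => ?_
  have h1 : ∀ y, y ⤳ ι z → y = ι z := fun y hy => by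
    obtain ⟨y', rfl⟩ := hιsurj y
    rw [hz y' (ι.isEmbedding.isInducing.specializes_iff.1 hy)]
  have h2 : ∀ y, y ⤳ pullback.fst f g (ι z) → y = pullback.fst f g (ι z) := fun y hy => by
    obtain ⟨y', hy', rfl⟩ := Flat.generalizingMap (pullback.fst f g) hy
    rw [h1 y' hy']
  have hxV := hV _ h2
  haveI := hVc
  haveI : IsLocallyNoetherian X := LocallyOfFiniteType.isLocallyNoetherian f
  haveI : IsNoetherian (V : Scheme.{u}) := { isLocallyNoetherian_of_isOpenImmersion V.ι with }
  have hxU : (⟨_, hxV⟩ : V) ∈ (U : Set (V : Scheme.{u})) :=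
    mem_of_maximal (T := (V : Scheme.{u})) U.2 hUd fun y hy => by
      refine V.ι.isOpenEmbedding.injective ?_
      exact h2 _ (hy.map V.ι.continuous)
  have hzr : ι z ∈ Set.range j := by
    rw [Scheme.Pullback.range_map]
    refine ⟨⟨⟨⟨_, hxV⟩, hxU⟩, rfl⟩, by simp⟩
  have : z ∈ Set.range (pullback.fst ι j) := by
    rw [Scheme.Pullback.range_fst]
    exact hzr
  obtain ⟨w, rfl⟩ := this
  exact (_root_.L02.SpRed.isGeomReducedAt_etale (pullback.fst ι j) (ι ≫ pullback.snd f g) rfl w).1
    (Groth.Lead.GeomRedVariety.forall_of_geometricallyReduced _ w)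

end Groth.L22.GeomRedBC
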